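import Mathlib.Data.Nat.Choose.Basic
import Mathlib.Data.Nat.Prime.Basic
import Mathlib.Data.Nat.Choose.Dvd
import Mathlib.Tactic.Ring
import Mathlib.Tactic.LinearCombination
import Mathlib.RingTheory.Nilpotent.Basic

/-!
# `p`-th powers of units congruent to one
-/

universe u

namespace Groth.Agent.Lib.Exchange.PicWitt.Powers

variable {R : Type u} [CommRing R]

theorem exists_expand (x : R) (n : ℕ) :
    ∃ c : R, (1 + x) ^ n = 1 + n * x + (n.choose 2) * x ^ 2 + x ^ 3 * c := by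
  induction n with
  | zero => exact ⟨0, by simp⟩
  | succ n ih =>
    obtain ⟨c, hc⟩ := ih
    have h : ((n + 1).choose 2 : R) = n.choose 2 + n := by
      rw [Nat.choose_succ_succ' n 1, Nat.choose_one_right]
      push_cast
      ring
    refine ⟨(n.choose 2 : R) + c * (1 + x), ?_⟩
    rw [pow_succ, hc, h]
    push_cast
    ring

variable {p : ℕ} (hp : p.Prime) (hp2 : 2 < p)
include hp hp2

theorem pow_step {m : ℕ} (hm : 1 ≤ m) (h : R) :
    ∃ e : R, (1 + (p : R) ^ m * h) ^ p = 1 + (p : R) ^ (m + 1) * h + (p : R) ^ (m + 2) * e := by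
  obtain ⟨c, hc⟩ := exists_expand ((p : R) ^ m * h) p
  obtain ⟨q, hq⟩ := hp.dvd_choose_self (two_ne_zero) hp2
  obtain ⟨m, rfl⟩ : ∃ k, m = k + 1 := ⟨m - 1, by omega⟩
  refine ⟨(q : R) * (p : R) ^ m * h ^ 2 + (p : R) ^ (2 * m) * h ^ 3 * c, ?_⟩
  rw [hc, hq]
  push_cast
  ring

theorem pow_iter {m : ℕ} (hm : 1 ≤ m) (h : R) (i : ℕ) :
    ∃ e : R, (1 + (p : R) ^ m * h) ^ p ^ i = 1 + (p : R) ^ (m + i) * h + (p : R) ^ (m + i + 1) * e := by
  induction i with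
  | zero => exact ⟨0, by simp⟩
  | succ i ih =>
    obtain ⟨e, he⟩ := ih
    obtain ⟨e', he'⟩ := pow_step hp hp2 (by omega : 1 ≤ m + i) (h + (p : R) * e)
    refine ⟨e + e', ?_⟩
    rw [pow_succ p i, pow_mul, he,
      show (1 : R) + (p : R) ^ (m + i) * h + (p : R) ^ (m + i + 1) * e = 1 + (p : R) ^ (m + i) * (h + (p : R) * e) by ring,
      he']
    ring

theorem dvd_pow_sub_one {m : ℕ} (hm : 1 ≤ m) {x : R} (hx : (p : R) ^ m ∣ x - 1) (i : ℕ) :
    (p : R) ^ (m + i) ∣ x ^ p ^ i - 1 := by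
  obtain ⟨h, hh⟩ := hx
  obtain ⟨e, he⟩ := pow_iter hp hp2 hm h i
  refine ⟨h + (p : R) * e, ?_⟩
  rw [show x = 1 + (p : R) ^ m * h by linear_combination hh, he]
  ring

theorem exists_root {m : ℕ} (hm : 1 ≤ m) {t : R} (i : ℕ) (ht : (p : R) ^ (m + i) ∣ t - 1)
    (h0 : (p : R) ^ (m + i + 1) = 0) :
    ∃ r : R, IsUnit r ∧ (p : R) ^ m ∣ r - 1 ∧ r ^ p ^ i = t := by
  obtain ⟨h, hh⟩ := ht
  obtain ⟨e, he⟩ := pow_iter hp hp2 hm h i
  refine ⟨1 + (p : R) ^ m * h, ?_, ⟨h, by ring⟩, ?_⟩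
  · refine IsNilpotent.isUnit_one_add ⟨m + i + 1, ?_⟩
    rw [mul_pow, ← pow_mul, mul_comm m, pow_mul, h0, zero_pow (by omega), zero_mul]
  · rw [he, h0, zero_mul, add_zero]
    linear_combination -hh

end Groth.Agent.Lib.Exchange.PicWitt.Powers
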