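import Groth.Agent.Lib.Exchange.PicWitt.Step
import Groth.Agent.Lib.Exchange.PicWitt.Powers
import Groth.Agent.Lib.ModelFibre.PicTower
import Groth.Agent.Lib.ProjSpace.SmoothDimLE

/-!
# `p`-th powers in the Picard group of a relative curve
-/

set_option autoImplicit false
set_option linter.style.haveILetI false
set_option linter.unusedSectionVars false
universe u

open CategoryTheory CategoryTheory.Limits AlgebraicGeometry IsLocalRing TopologicalSpace
open Groth.Agent.Lib Groth.Agent.Lib.ModelFibre Groth.Agent.Lib.Exchange.Thick Groth.Agent.Lib.Exchange.Algz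
open Groth.Agent.H78.Formal.Sections

noncomputable section

namespace Groth.Agent.Lib.Exchange.PicWitt.Main

variable {R : Type u} [CommRing R] [IsDomain R] [IsDiscreteValuationRing R]
  (X : Over (Spec (CommRingCat.of R)))



/-- levels -/
abbrev XT (k : ℕ) : Scheme.{u} := (PicTower.T X).X k

theorem ker_w_le {j M : ℕ} (h : j ≤ M) : ((PicTower.w X) M).ker ≤ ((PicTower.w X) j).ker := by
  rw [PicTower.ker_w, PicTower.ker_w]
  induction M, h using Nat.le_induction with
  | base => exact le_rfl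
  | succ M _ ih =>
    refine le_trans ?_ ih
    intro U
    simp only [Scheme.IdealSheafData.ideal_pow, Pi.pow_apply]
    exact Ideal.pow_le_pow_right (Nat.le_succ _)

/-- inclusions of levels -/
def tr {j M : ℕ} (h : j ≤ M) : (XT X) j ⟶ (XT X) M := IsClosedImmersion.lift ((PicTower.w X) M) ((PicTower.w X) j) (ker_w_le X h)

theorem tr_w {j M : ℕ} (h : j ≤ M) : tr X h ≫ (PicTower.w X) M = (PicTower.w X) j := IsClosedImmersion.lift_fac _ _ _

instance isClosedImmersion_tr {j M : ℕ} (h : j ≤ M) : IsClosedImmersion (tr X h) := by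
  haveI : IsClosedImmersion (tr X h ≫ (PicTower.w X) M) := by rw [tr_w]; infer_instance
  exact IsClosedImmersion.of_comp (tr X h) ((PicTower.w X) M)

instance surjective_tr {j M : ℕ} (h : j ≤ M) : Surjective (tr X h) := ⟨fun z => by
  have h1 : (PicTower.w X) M z ∈ Set.range ((PicTower.w X) j).base := by
    rw [PicTower.range_w, ← PicTower.range_w X M]; exact ⟨z, rfl⟩
  obtain ⟨y, hy⟩ := h1
  exact ⟨y, ((PicTower.w X) M).isClosedEmbedding.injective (by rw [← Scheme.Hom.comp_apply, tr_w, hy])⟩⟩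

variable [∀ n, PicGrp.Law ((PicTower.T X).X n)]

/-- restriction between levels -/
def tp {j M : ℕ} (h : j ≤ M) : PicLoc.PicSet ((XT X) M) →* PicLoc.PicSet ((XT X) j) :=
  PicGrp.pullHom (tr X h) (TensorMod.Pullback.pullMul _)

variable [PicGrp.Law X.left]

/-- restriction to a level -/
def rho (j : ℕ) : PicLoc.PicSet X.left →* PicLoc.PicSet ((XT X) j) :=
  PicGrp.pullHom ((PicTower.w X) j) (TensorMod.Pullback.pullMul _)

theorem tp_rho {j M : ℕ} (h : j ≤ M) (c : PicLoc.PicSet X.left) : tp X h (rho X M c) = rho X j c :=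
  Subtype.ext (by
    show PicF.pullCl _ (PicF.pullCl _ c.1) = PicF.pullCl _ c.1
    rw [← PicLoc.pullCl_comp, tr_w])

theorem tp_tp {i j M : ℕ} (h : i ≤ j) (h' : j ≤ M) (h'' : i ≤ M) (c : PicLoc.PicSet ((XT X) M)) :
    tp X h (tp X h' c) = tp X h'' c := Subtype.ext (by
  show PicF.pullCl _ (PicF.pullCl _ c.1) = PicF.pullCl _ c.1
  rw [← PicLoc.pullCl_comp]
  congr 1
  rw [← cancel_mono ((PicTower.w X) M), Category.assoc, tr_w, tr_w, tr_w])

theorem tp_self {j : ℕ} (h : j ≤ j) (c : PicLoc.PicSet ((XT X) j)) : tp X h c = c := Subtype.ext (by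
  show PicF.pullCl _ c.1 = c.1
  rw [show tr X h = 𝟙 _ by rw [← cancel_mono ((PicTower.w X) j), tr_w, Category.id_comp], PicLoc.pullCl_id])

variable [IsProper X.hom]

theorem isLocallyNoetherian_XT (k : ℕ) : IsLocallyNoetherian ((XT X) k) :=
  haveI : IsLocallyNoetherian X.left := LocallyOfFiniteType.isLocallyNoetherian X.hom
  LocallyOfFiniteType.isLocallyNoetherian ((PicTower.w X) k)

theorem noetherianSpace_XT (k : ℕ) : NoetherianSpace ((XT X) k) := by
  haveI := isLocallyNoetherian_XT X k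
  haveI : CompactSpace X.left := QuasiCompact.compactSpace_of_compactSpace X.hom
  haveI : CompactSpace ((XT X) k) := QuasiCompact.compactSpace_of_compactSpace ((PicTower.w X) k)
  haveI : IsNoetherian ((XT X) k) := { }
  infer_instance

theorem dim_XT [SmoothOfRelativeDimension 1 X.hom] (k : ℕ) : topologicalKrullDim ((XT X) k) ≤ 1 := by
  have h0 : topologicalKrullDim ((XT X) 0) ≤ 1 := by
    haveI : ((maximalIdeal R) ^ (0 + 1)).IsMaximal := by rw [pow_one]; exact maximalIdeal.isMaximal R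
    letI : Field (R ⧸ (maximalIdeal R) ^ (0 + 1)) := Ideal.Quotient.field _
    let g : (XT X) 0 ⟶ Spec (CommRingCat.of (R ⧸ (maximalIdeal R) ^ (0 + 1))) :=
      pullback.snd X.hom (CohB1.specQuot (maximalIdeal R) 0)
    haveI := smoothOfRelativeDimension_isStableUnderBaseChange (n := 1)
    haveI : SmoothOfRelativeDimension 1 g :=
      MorphismProperty.pullback_snd (P := @SmoothOfRelativeDimension 1) X.hom _ inferInstance
    exact ProjSpace.SmoothDimLE.topologicalKrullDim_le (R ⧸ (maximalIdeal R) ^ (0 + 1)) g 1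
  refine le_trans (le_of_eq (IsHomeomorph.topologicalKrullDim_eq (tr X (Nat.zero_le k)) ?_).symm) h0
  exact isHomeomorph_iff_isEmbedding_surjective.2
    ⟨(tr X (Nat.zero_le k)).isClosedEmbedding.isEmbedding, (tr X (Nat.zero_le k)).surjective⟩

variable [SmoothOfRelativeDimension 1 X.hom]

theorem tp_surjective {j M : ℕ} (h : j ≤ M) : Function.Surjective (tp X h) :=
  haveI := noetherianSpace_XT X M
  pullHom_surjective (tr X h) (dim_XT X M) _

variable [IsAdicComplete (maximalIdeal R) R]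
variable {p : ℕ} (hp : p.Prime) (hp2 : 2 < p) (hI : maximalIdeal R = Ideal.span {(p : R)})

include hI in
theorem app_w_eq_zero (m : ℕ) {V : X.left.Opens} (hV : IsAffineOpen V) (s : Γ(X.left, V)) :
    ((PicTower.w X) m).app V s = 0 ↔ (p : Γ(X.left, V)) ^ (m + 1) ∣ s := by
  letI : X.left.Over (Spec (CommRingCat.of R)) := ⟨X.hom⟩
  haveI : IsProper (X.left ↘ Spec (CommRingCat.of R)) := ‹IsProper X.hom›
  haveI : IsLocallyNoetherian X.left := LocallyOfFiniteType.isLocallyNoetherian X.hom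
  haveI : ∀ k, IsLocallyNoetherian (XT X k) := isLocallyNoetherian_XT X
  have hker : ∀ k, ((PicTower.w X) k).ker = jIdeal (maximalIdeal R) ^ (k + 1) := fun k => by
    rw [PicTower.ker_w, jIdeal, Models.specialFibreIdeal, PicTower.idealSheaf_eq]
    rfl
  have h := Algz.ker_app ((PicTower.w X)) hker m hV
  rw [show sIdeal (maximalIdeal R) V = Ideal.span {(p : Γ(X.left, V))} by
    rw [sIdeal, hI, Ideal.map_span, Set.image_singleton, map_natCast], Ideal.span_singleton_pow] at h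
  rw [← Ideal.mem_span_singleton, ← h]
  exact (RingHom.mem_ker (f := (((PicTower.w X) m).app V).hom)).symm

theorem app_app_eq_zero {Z₀ Z : Scheme.{u}} {w' : Z₀ ⟶ X.left} (a : Z₀ ⟶ Z) (w : Z ⟶ X.left)
    (e : a ≫ w = w') (V : X.left.Opens) (s : Γ(X.left, V)) :
    a.app (w ⁻¹ᵁ V) (w.app V s) = 0 ↔ w'.app V s = 0 := by
  subst e
  rfl

include hp hp2 hI in
theorem exists_root_level {m i : ℕ} (c : PicLoc.PicSet ((XT X) (m + i + 1)))
    (hc : tp X (Nat.le_succ (m + i)) c = 1) :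
    ∃ d : PicLoc.PicSet ((XT X) (m + i + 1)), tp X (show m ≤ m + i + 1 by omega) d = 1 ∧ d ^ p ^ i = c := by
  haveI := noetherianSpace_XT X (m + i + 1)
  refine exists_root (tr X (show m ≤ m + i + 1 by omega)) (tr X (Nat.le_succ (m + i))) (dim_XT X _) _ _
    (p ^ i) (fun x O hx => ?_) c hc
  obtain ⟨O', hO', rfl⟩ : ∃ O' : X.left.Opens, IsOpen (O' : Set X.left) ∧ ((PicTower.w X) (m + i + 1)) ⁻¹ᵁ O' = O := by
    obtain ⟨W, hW, hWO⟩ := ((PicTower.w X) (m + i + 1)).isClosedEmbedding.isInducing.isOpen_iff.1 O.2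
    exact ⟨⟨W, hW⟩, hW, Opens.ext hWO⟩
  obtain ⟨V, hV, hxV, hVO⟩ := exists_isAffineOpen_mem_and_subset (U := O') hx
  let q := (((PicTower.w X) (m + i + 1)).app V).hom
  have hsur : Function.Surjective q := ((PicTower.w X) (m + i + 1)).app_surjective V hV
  have hlevel : ∀ {j : ℕ} (h : j ≤ m + i + 1) (r : Γ((XT X) (m + i + 1), ((PicTower.w X) (m + i + 1)) ⁻¹ᵁ V)),
      (tr X h).app _ r = 1 ↔ (p : Γ((XT X) (m + i + 1), ((PicTower.w X) (m + i + 1)) ⁻¹ᵁ V)) ^ (j + 1) ∣ r - 1 := by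
    intro j h r
    obtain ⟨s, hs⟩ := hsur (r - 1)
    have h1 : (tr X h).app _ r = 1 ↔ (tr X h).app _ (r - 1) = 0 := by
      rw [map_sub, map_one, sub_eq_zero]
    rw [h1, ← hs]
    refine (app_app_eq_zero X (tr X h) ((PicTower.w X) (m + i + 1)) (tr_w X h) V s).trans ?_
    rw [app_w_eq_zero X hI j hV]
    constructor
    · intro hd
      have h2 := map_dvd q hd
      rwa [map_pow, map_natCast] at h2
    · rintro ⟨y, hy⟩
      obtain ⟨y', rfl⟩ := hsur y
      have h2 : ((PicTower.w X) (m + i + 1)).app V (s - (p : Γ(X.left, V)) ^ (j + 1) * y') = 0 := by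
        show q (s - (p : Γ(X.left, V)) ^ (j + 1) * y') = 0
        rw [map_sub, map_mul, map_pow, map_natCast, hy, sub_self]
      rw [app_w_eq_zero X hI _ hV] at h2
      have h3 : (p : Γ(X.left, V)) ^ (j + 1) ∣ s - (p : Γ(X.left, V)) ^ (j + 1) * y' :=
        (pow_dvd_pow _ (Nat.succ_le_succ h)).trans h2
      simpa using dvd_add h3 (dvd_mul_right ((p : Γ(X.left, V)) ^ (j + 1)) y')
  refine ⟨((PicTower.w X) (m + i + 1)) ⁻¹ᵁ V, fun y hy => hVO hy, hxV, fun t _ ht => ?_, fun r hr => ?_⟩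
  · have h0 : (p : Γ((XT X) (m + i + 1), ((PicTower.w X) (m + i + 1)) ⁻¹ᵁ V)) ^ (m + 1 + i + 1) = 0 := by
      have h1 : q ((p : Γ(X.left, V)) ^ (m + i + 1 + 1)) = 0 := (app_w_eq_zero X hI _ hV _).2 dvd_rfl
      rw [map_pow, map_natCast] at h1
      exact eq_zero_of_zero_dvd (dvd_trans (dvd_of_eq h1.symm) (pow_dvd_pow _ (by omega)))
    obtain ⟨r, hru, hr, hrp⟩ := Powers.exists_root hp hp2 (m := m + 1) (by omega) i
      ((pow_dvd_pow _ (by omega)).trans ((hlevel _ t).1 ht)) h0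
    exact ⟨r, hru, (hlevel _ r).2 hr, hrp⟩
  · refine (hlevel _ _).2 ?_
    have h1 := Powers.dvd_pow_sub_one hp hp2 (by omega : 1 ≤ m + 1) ((hlevel _ r).1 hr) i
    exact (pow_dvd_pow _ (by omega)).trans h1

/-- algebraization of classes -/
theorem exists_algz (L : ∀ k, PicLoc.PicSet ((XT X) k)) (hL : ∀ k, tp X (Nat.le_succ k) (L (k + 1)) = L k) :
    ∃ c, ∀ k, rho X k c = L k := by
  letI : X.left.Over (Spec (CommRingCat.of R)) := ⟨X.hom⟩
  haveI : IsProper (X.left ↘ Spec (CommRingCat.of R)) := ‹IsProper X.hom›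
  haveI : IsLocallyNoetherian X.left := LocallyOfFiniteType.isLocallyNoetherian X.hom
  haveI : ∀ k, IsLocallyNoetherian ((XT X) k) := isLocallyNoetherian_XT X
  choose A hA hAe using fun k => PicGrp.exists_eq_cls (L k)
  have hi : ∀ k, (PicTower.T X).i k = tr X (Nat.le_succ k) := fun k => by
    rw [← cancel_mono ((PicTower.w X) (k + 1)), PicTower.i_w, tr_w]
  have hφ : ∀ k, Nonempty ((Scheme.Modules.pullback ((PicTower.T X).i k)).obj (A (k + 1)) ≅ A k) := fun k => by
    refine (PicGrp.cl_eq_cl_iff _ _).1 ?_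
    have h := congrArg Subtype.val (hL k)
    rw [hAe k, hAe (k + 1)] at h
    rw [hi k]
    exact h
  obtain ⟨M, hM, hMk⟩ := AlgzProper.exists_bundle_proper (T := PicTower.T X) ((PicTower.w X)) (PicTower.i_w X)
    (fun k => by
      show (PicTower.w X) k ≫ X.hom = _
      exact pullback.condition)
    (fun k => by
      rw [PicTower.ker_w, jIdeal, Models.specialFibreIdeal, PicTower.idealSheaf_eq]
      rfl) A hA (fun k => (hφ k).some)
  refine ⟨PicGrp.cls M hM, fun k => Subtype.ext ?_⟩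
  rw [hAe k]
  exact (PicGrp.cl_eq_cl_iff _ _).2 (hMk k)

theorem eq_one_of_levels {c : PicLoc.PicSet X.left} (h : ∀ k, rho X k c = 1) : c = 1 := by
  haveI : Smooth X.hom := SmoothOfRelativeDimension.smooth 1 _
  haveI : Flat X.hom := inferInstance
  obtain ⟨M, hM, rfl⟩ := PicGrp.exists_eq_cls c
  rw [PicGrp.cls_eq_one_iff]
  refine PicTower.trivial_of_levels X hM fun k => (PicGrp.cl_eq_cl_iff _ _).1 ?_
  have h1 := congrArg Subtype.val (h k)
  rw [PicGrp.one_val] at h1
  exact h1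

theorem rho_surjective (n : ℕ) : Function.Surjective (rho X n) := by
  intro c
  choose f hf using fun (j : ℕ) (d : PicLoc.PicSet ((XT X) (n + j))) =>
    tp_surjective X (show n + j ≤ n + (j + 1) by omega) d
  let d : ∀ j, PicLoc.PicSet ((XT X) (n + j)) := fun j => Nat.rec (motive := fun j => PicLoc.PicSet ((XT X) (n + j))) c f j
  have hd : ∀ j, tp X (show n + j ≤ n + (j + 1) by omega) (d (j + 1)) = d j := fun j => hf j _
  have hn : ∀ j, tp X (show n ≤ n + j by omega) (d j) = c := by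
    intro j
    induction j with
    | zero => exact tp_self X _ _
    | succ j ih =>
      rw [← tp_tp X (show n ≤ n + j by omega) (show n + j ≤ n + (j + 1) by omega) (by omega), hd, ih]
  obtain ⟨a, ha⟩ := exists_algz X (fun k => tp X (show k ≤ n + k by omega) (d k)) fun k => by
    rw [tp_tp X _ _ (show k ≤ n + (k + 1) by omega),
      ← tp_tp X (show k ≤ n + k by omega) (show n + k ≤ n + (k + 1) by omega), hd]
  exact ⟨a, (ha n).trans (hn n)⟩

include hp hp2 hI in
theorem exists_root_of_trivial {i : ℕ} (c : PicLoc.PicSet X.left) (hc : rho X i c = 1) :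
    ∃ a, a ^ p ^ i = c := by
  have step : ∀ (j : ℕ) (γ : PicLoc.PicSet X.left), rho X (j + i) (c / γ ^ p ^ i) = 1 →
      ∃ γ', rho X (j + 1 + i) (c / γ' ^ p ^ i) = 1 ∧ rho X j γ' = rho X j γ := by
    intro j γ hγ
    have h1 : tp X (Nat.le_succ (j + i)) (rho X (j + i + 1) (c / γ ^ p ^ i)) = 1 := by rw [tp_rho, hγ]
    obtain ⟨d, hd0, hd⟩ := exists_root_level X hp hp2 hI _ h1
    obtain ⟨δ, hδ⟩ := rho_surjective X _ d
    refine ⟨γ * δ, ?_, ?_⟩
    · rw [show j + 1 + i = j + i + 1 by omega, mul_pow, ← div_div, map_div, map_pow, hδ, hd, div_self']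
    · rw [map_mul, ← tp_rho X (show j ≤ j + i + 1 by omega) δ, hδ, hd0, mul_one]
  choose f hf1 hf2 using step
  let γ : ∀ j : ℕ, {g // rho X (j + i) (c / g ^ p ^ i) = 1} := fun j =>
    Nat.rec (motive := fun j => {g // rho X (j + i) (c / g ^ p ^ i) = 1})
      ⟨1, by rw [one_pow, div_one, show 0 + i = i by omega]; exact hc⟩
      (fun j g => ⟨f j g.1 g.2, hf1 j g.1 g.2⟩) j
  obtain ⟨a, ha⟩ := exists_algz X (fun k => rho X k (γ k).1) fun k => by
    rw [tp_rho]
    exact hf2 k _ _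
  refine ⟨a, (div_eq_one.1 (eq_one_of_levels X fun k => ?_)).symm⟩
  have h1 := congrArg (tp X (show k ≤ k + i by omega)) (γ k).2
  rw [tp_rho, map_one, map_div, map_pow] at h1
  rw [map_div, map_pow, ha]
  exact h1

include hp hp2 hI in
theorem main (i : ℕ) :
    (∀ n, Function.Surjective (rho X n)) ∧ ∀ a, (∃ b, b ^ p ^ i = rho X i a) → ∃ a', a' ^ p ^ i = a := by
  refine ⟨rho_surjective X, fun a hab => ?_⟩
  obtain ⟨b, hb⟩ := hab
  obtain ⟨β, rfl⟩ := rho_surjective X i b
  obtain ⟨γ, hγ⟩ := exists_root_of_trivial X hp hp2 hI (a / β ^ p ^ i) (by rw [map_div, map_pow, hb, div_self'])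
  exact ⟨β * γ, by rw [mul_pow, hγ, mul_div_cancel]⟩

theorem main' {R : Type u} [CommRing R] [IsDomain R] [IsDiscreteValuationRing R] (I : Ideal R)
    [IsAdicComplete I R] (hI : I = maximalIdeal R) {p : ℕ} (hp : p.Prime) (hp2 : 2 < p)
    (hIp : I = Ideal.span {(p : R)}) (X : Scheme.{u}) (f : X ⟶ Spec (CommRingCat.of R)) [IsProper f]
    [SmoothOfRelativeDimension 1 f] [PicGrp.Law X] [∀ n : ℕ, PicGrp.Law (CohB1.thick f I n)]
    (hι : ∀ n : ℕ, PicGrp.PullMul (CohB1.thickι f I n)) (i : ℕ) :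
    (∀ n : ℕ, Function.Surjective (PicGrp.pullHom (CohB1.thickι f I n) (hι n))) ∧
    ∃ t : ℕ, ∀ a : PicLoc.PicSet X,
      (∃ b : PicLoc.PicSet (CohB1.thick f I t), b ^ (p ^ i) = PicGrp.pullHom (CohB1.thickι f I t) (hι t) a) →
      ∃ a' : PicLoc.PicSet X, a' ^ (p ^ i) = a := by
  subst hI
  let Xo : Over (Spec (CommRingCat.of R)) := Over.mk f
  haveI : IsProper Xo.hom := ‹IsProper f›
  haveI : SmoothOfRelativeDimension 1 Xo.hom := ‹SmoothOfRelativeDimension 1 f›
  letI : PicGrp.Law Xo.left := ‹PicGrp.Law X›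
  letI : ∀ n, PicGrp.Law ((PicTower.T Xo).X n) := fun n => (inferInstance : PicGrp.Law (CohB1.thick f (maximalIdeal R) n))
  exact ⟨(main Xo hp hp2 hIp i).1, i, (main Xo hp hp2 hIp i).2⟩

end Groth.Agent.Lib.Exchange.PicWitt.Main
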