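import Groth.Agent.Lib.Exchange.PicExact.Seq
import Groth.Agent.H34.VanishOne
import Groth.Agent.Lib.TensorMod.Pullback
import Groth.Agent.H54.PicTorsion

/-!
# Powers in Picard groups of one dimensional schemes along thickenings
-/

set_option autoImplicit false
set_option linter.style.haveILetI false
set_option linter.unusedSectionVars false
universe u

open CategoryTheory CategoryTheory.Limits AlgebraicGeometry Opposite TopologicalSpace CategoryTheory.Abelian
open Groth.Agent.Lib Groth.Agent.Lib.ZarH1Units.Zar Groth.Agent.Lib.Exchange.PicExact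

noncomputable section

namespace Groth.Agent.Lib.Exchange.PicWitt

variable {Z Z₀ Z₁ : Scheme.{u}} (a : Z₀ ⟶ Z) (b : Z₁ ⟶ Z)

theorem uv_nsmul {W : Z.Opens} (n : ℕ) (s : sc (UnitsSh.unitsAb Z) W) : uv (n • s) = uv s ^ n := by
  induction n with
  | zero => rw [zero_smul, pow_zero, uv_zero]
  | succ n ih => rw [succ_nsmul, pow_succ, uv_add, ih]

theorem comap_zero_iff {V : Z.Opens} (s : sc (UnitsSh.unitsAb Z) V) :
    (UnitsSh.comap a).hom.app (op V) s = 0 ↔ a.app V (uv s) = 1 := by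
  constructor
  · intro h
    have h1 := UnitsSh.unitOfSect_comap_app a V s
    rw [h] at h1
    exact (congrArg Units.val h1).symm
  · intro h
    have h1 := UnitsSh.unitOfSect_comap_app a V s
    exact Additive.toMul.injective (h1.trans (Units.ext h))

/-- kernel of restriction of units -/
abbrev K : CohTop.Ab Z.toTopCat := kernel (UnitsSh.comap a)

/-- the units sequence -/
abbrev seqU : ShortComplex (CohTop.Ab Z.toTopCat) :=
  ShortComplex.mk (kernel.ι (UnitsSh.comap a)) (UnitsSh.comap a) (kernel.condition _)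

section
variable [IsClosedImmersion a] [Surjective a]

theorem epi_comap : Epi (UnitsSh.comap a) := by
  refine (TopCat.Sheaf.isLocallySurjective_iff_epi _).1
    ((TopCat.Presheaf.isLocallySurjective_iff _).2 fun U k x hx ↦ ?_)
  obtain ⟨V, hV, hxV, hVU⟩ := exists_isAffineOpen_mem_and_subset (U := U) hx
  let k' := (G a).obj.map (homOfLE hVU).op k
  let v : (Γ(Z₀, a ⁻¹ᵁ V))ˣ :=
    UnitsSh.unitOfSect (O := a.base _* Z₀.presheaf) (U := op V) k'
  obtain ⟨r, hr⟩ := a.app_surjective V hV v.val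
  have hru : IsUnit r := H54.PicTorsion.isUnit_of_isUnit_app a r (by rw [hr]; exact v.isUnit)
  refine ⟨V, hVU, ⟨UnitsSh.sectOfUnit (O := Z.sheaf.obj) (U := op V) hru.unit, ?_⟩, hxV⟩
  refine Additive.toMul.injective ((UnitsSh.unitOfSect_comap_app a V _).trans (Units.ext ?_))
  exact hr

theorem shortExact_seqU : (seqU a).ShortExact := by
  haveI := epi_comap a
  exact ShortComplex.ShortExact.mk' (ShortComplex.exact_of_f_is_kernel _ (kernelIsKernel _))
    inferInstance inferInstance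

end

theorem shortExact_of_epi {A B : CohTop.Ab Z.toTopCat} (μ : A ⟶ B) [Epi μ] :
    (ShortComplex.mk (kernel.ι μ) μ (kernel.condition μ)).ShortExact :=
  ShortComplex.ShortExact.mk' (ShortComplex.exact_of_f_is_kernel _ (kernelIsKernel _))
    inferInstance inferInstance

variable [PicGrp.Law Z] [PicGrp.Law Z₀] [PicGrp.Law Z₁]

theorem pullHom_eq_one_iff [IsClosedImmersion a] (ha : PicGrp.PullMul a) (c : PicLoc.PicSet Z) :
    PicGrp.pullHom a ha c = 1 ↔ res a (picH Z (Additive.ofMul c)) = 0 := by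
  have h := picH_pullHom a ha c
  rw [← (θ_bijective a).1.eq_iff (b := (0 : CohTop.H (G a) 1)), map_zero, ← h,
    AddEquiv.map_eq_zero_iff]
  exact Iff.rfl

section Dim

variable [NoetherianSpace Z] (hdim : topologicalKrullDim Z ≤ 1)

include hdim

/-- surjectivity along thickenings of one dimensional schemes -/
theorem pullHom_surjective [IsClosedImmersion a] [Surjective a] (ha : PicGrp.PullMul a) :
    Function.Surjective (PicGrp.pullHom a ha) := by
  intro c
  obtain ⟨z, hz⟩ := (θ_bijective a).2 (picH Z₀ (Additive.ofMul c))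
  haveI : Subsingleton (CohTop.H (seqU a).X₁ 2) := H34.VanishOne.H_subsingleton hdim _ 0
  obtain ⟨y, hy⟩ := Ext.covariant_sequence_exact₃ _ (shortExact_seqU a) z (rfl : 1 + 1 = 2)
    (Subsingleton.elim _ _)
  refine ⟨((picH Z).symm y).toMul, Additive.ofMul.injective ((picH Z₀).injective ?_)⟩
  rw [picH_pullHom a ha, ofMul_toMul, AddEquiv.apply_symm_apply, ← hz]
  exact congrArg (θ a) hy

/-- roots along a pair of thickenings -/
theorem exists_root [IsClosedImmersion a] [IsClosedImmersion b] [Surjective b]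
    (ha : PicGrp.PullMul a) (hb : PicGrp.PullMul b) (n : ℕ)
    (hB : ∀ (x : Z) (O : Z.Opens), x ∈ O → ∃ V ≤ O, x ∈ V ∧
      (∀ t : Γ(Z, V), IsUnit t → b.app V t = 1 → ∃ r, IsUnit r ∧ a.app V r = 1 ∧ r ^ n = t) ∧
      ∀ r : Γ(Z, V), a.app V r = 1 → b.app V (r ^ n) = 1)
    (c : PicLoc.PicSet Z) (hc : PicGrp.pullHom b hb c = 1) :
    ∃ d : PicLoc.PicSet Z, PicGrp.pullHom a ha d = 1 ∧ d ^ n = c := by
  -- the power map on kernels
  have hzero : (n • kernel.ι (UnitsSh.comap a)) ≫ UnitsSh.comap b = 0 := by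
    refine ObjectProperty.hom_ext _ (NatTrans.ext (funext fun U => ?_))
    refine ConcreteCategory.hom_ext _ _ fun s => ?_
    let s' : sc (UnitsSh.unitsAb Z) U.unop := (kernel.ι (UnitsSh.comap a)).hom.app U s
    show (UnitsSh.comap b).hom.app (op U.unop) (n • s') = 0
    have hs : (UnitsSh.comap a).hom.app (op U.unop) s' = 0 :=
      ConcreteCategory.congr_hom (congrArg (fun m : K a ⟶ G a => m.hom.app U) (kernel.condition (UnitsSh.comap a))) s
    rw [comap_zero_iff, uv_nsmul]
    choose V hVle hxV hV₁ hV₂ using fun x : U.unop => hB x.1 U.unop x.2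
    refine TopCat.Sheaf.eq_of_locally_eq' Z₁.sheaf (fun x => b ⁻¹ᵁ V x) (b ⁻¹ᵁ U.unop)
      (fun x => homOfLE (fun z hz => hVle x hz)) (fun z hz => ?_) _ _ fun x => ?_
    · exact Opens.mem_iSup.2 ⟨⟨b z, hz⟩, hxV ⟨b z, hz⟩⟩
    · refine Eq.trans ?_ (map_one (Z₁.presheaf.map (homOfLE (fun z hz => hVle x hz)).op).hom).symm
      refine (ConcreteCategory.congr_hom (b.naturality (homOfLE (hVle x)).op) (uv s' ^ n)).symm.trans ?_
      show b.app (V x) ((Z.presheaf.map (homOfLE (hVle x)).op).hom (uv s' ^ n)) = 1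
      rw [map_pow]
      refine hV₂ x _ ?_
      refine (ConcreteCategory.congr_hom (a.naturality (homOfLE (hVle x)).op) (uv s')).trans ?_
      show (Z₀.presheaf.map _).hom (a.app U.unop (uv s')) = 1
      rw [(comap_zero_iff a s').1 hs]
      exact map_one _
  let μ : K a ⟶ K b := kernel.lift _ _ hzero
  have hμι : μ ≫ kernel.ι (UnitsSh.comap b) = n • kernel.ι (UnitsSh.comap a) := kernel.lift_ι _ _ _
  haveI : Epi μ := by
    refine (TopCat.Sheaf.isLocallySurjective_iff_epi _).1
      ((TopCat.Presheaf.isLocallySurjective_iff _).2 fun U k x hx ↦ ?_)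
    obtain ⟨V, hVU, hxV, h₁, -⟩ := hB x U hx
    let k' : sc (K b) V := (K b).obj.map (homOfLE hVU).op k
    let t : sc (UnitsSh.unitsAb Z) V := (kernel.ι (UnitsSh.comap b)).hom.app (op V) k'
    have ht : (UnitsSh.comap b).hom.app (op V) t = 0 :=
      ConcreteCategory.congr_hom (congrArg (fun m : K b ⟶ G b => m.hom.app (op V)) (kernel.condition (UnitsSh.comap b))) k'
    obtain ⟨r, hru, hra, hrn⟩ := h₁ (uv t) (isUnit_uv t) ((comap_zero_iff b t).1 ht)
    obtain ⟨s, hs⟩ := exists_uv_eq hru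
    have hsa : (UnitsSh.comap a).hom.app (op V) s = 0 := (comap_zero_iff a s).2 (by rw [hs]; exact hra)
    let g : Groth.Agent.Lib.ZarCoh.Basic.Zs.obj V ⟶ UnitsSh.unitsAb Z :=
      (Groth.Agent.Lib.ZarCoh.Basic.homEquiv V _).symm s
    have hg : g ≫ UnitsSh.comap a = 0 := by
      apply (Groth.Agent.Lib.ZarCoh.Basic.homEquiv V _).injective
      rw [Groth.Agent.Lib.ZarCoh.Basic.homEquiv_comp, Equiv.apply_symm_apply, hsa,
        Groth.Agent.Lib.ZarCoh.Basic.homEquiv_apply]
      rfl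
    let s₀ : sc (K a) V := Groth.Agent.Lib.ZarCoh.Basic.homEquiv V _ (kernel.lift _ g hg)
    have hs₀ : (kernel.ι (UnitsSh.comap a)).hom.app (op V) s₀ = s := by
      rw [← Groth.Agent.Lib.ZarCoh.Basic.homEquiv_comp, kernel.lift_ι]
      exact Equiv.apply_symm_apply _ _
    refine ⟨V, hVU, ⟨s₀, ?_⟩, hxV⟩
    refine injective_app (shortExact_seqU b) V ?_
    show (μ ≫ kernel.ι (UnitsSh.comap b)).hom.app (op V) s₀ = t
    rw [hμι]
    show n • (kernel.ι (UnitsSh.comap a)).hom.app (op V) s₀ = t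
    rw [hs₀]
    exact uv_injective ((uv_nsmul n s).trans (by rw [hs, hrn]))
  -- lift the class
  obtain ⟨x, hx⟩ := Ext.covariant_sequence_exact₂ _ (shortExact_seqU b) (picH Z (Additive.ofMul c))
    ((pullHom_eq_one_iff b hb c).1 hc)
  haveI : Subsingleton (CohTop.H (kernel μ) 2) := H34.VanishOne.H_subsingleton hdim _ 0
  obtain ⟨y, hy⟩ := Ext.covariant_sequence_exact₃ _ (shortExact_of_epi μ) x (rfl : 1 + 1 = 2)
    (Subsingleton.elim _ _)
  let y' : CohTop.H (UnitsSh.unitsAb Z) 1 := y.comp (Ext.mk₀ (kernel.ι (UnitsSh.comap a))) (add_zero 1)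
  refine ⟨((picH Z).symm y').toMul, ?_, ?_⟩
  · rw [pullHom_eq_one_iff, ofMul_toMul, AddEquiv.apply_symm_apply]
    refine (Ext.comp_assoc_of_third_deg_zero _ _ _ (add_zero 1)).trans ?_
    rw [Ext.mk₀_comp_mk₀, kernel.condition, Ext.mk₀_zero, Ext.comp_zero]
  · refine Additive.ofMul.injective ((picH Z).injective ?_)
    rw [ofMul_pow, ofMul_toMul, map_nsmul, AddEquiv.apply_symm_apply, ← hx]
    change y.comp (Ext.mk₀ μ) (add_zero 1) = x at hy
    rw [← hy, Ext.comp_assoc_of_third_deg_zero, Ext.mk₀_comp_mk₀, hμι,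
      show Ext.mk₀ (n • kernel.ι (UnitsSh.comap a)) = n • Ext.mk₀ (kernel.ι (UnitsSh.comap a)) from
        map_nsmul Ext.addEquiv₀.symm n _]
    exact (map_nsmul (Ext.bilinearComp _ _ _ 1 0 1 (add_zero 1) y) n _).symm

end Dim

end Groth.Agent.Lib.Exchange.PicWitt
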